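import Cfsg.Agent.Lib.Perm.Trans.Basic
import Cfsg.Agent.Lib.Perm.Asch.Commutative

/-!
# The field of a Singer cycle in prime degree

The norm one group of the field, its normaliser in the special linear group, and the fact that a
commutative set of matrices normalised by a large element of the field is centralised by it.
-/

set_option autoImplicit false
set_option linter.all false

namespace CfsgLib.Perm.Trans.SingerNorm

open scoped Classical Matrix
open Matrix Cfsg.Geo CfsgLib.Perm.Asch CfsgLib.Perm.Trans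

variable {n : ℕ} {F : Type*} [Field F] {K : Subalgebra F (Matrix (Fin n) (Fin n) F)}

/-- the number of points -/
def phi (n q : ℕ) : ℕ := ∑ i ∈ Finset.range n, q ^ i

theorem det_one {g : GL (Fin n) F} (hg : g ∈ specialLinear (Fin n) F) :
    (g : Matrix (Fin n) (Fin n) F).det = 1 := by
  have h := congrArg Units.val (show Matrix.GeneralLinearGroup.det g = 1 from hg)
  rwa [Matrix.GeneralLinearGroup.val_det_apply] at h

theorem fld (hn : n.Prime) (hK : IsFieldSubalgebra n K) :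
    IsField K := by
  haveI : Nonempty (Fin n) := ⟨⟨0, hn.pos⟩⟩
  exact ⟨⟨0, 1, fun h => zero_ne_one (congrArg Subtype.val h)⟩,
    fun x y => Subtype.ext (hK.comm _ x.2 _ y.2), fun {x} hx => by
      obtain ⟨y, hy, hxy⟩ := hK.inv _ x.2 (fun h => hx (Subtype.ext h))
      exact ⟨⟨y, hy⟩, Subtype.ext hxy⟩⟩

theorem eq_zero_of_mulVec (hK : IsFieldSubalgebra n K) {m : Matrix (Fin n) (Fin n) F} (hm : m ∈ K)
    {v : Fin n → F} (hv : v ≠ 0) (h : m *ᵥ v = 0) : m = 0 := by
  by_contra h0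
  obtain ⟨z, hz, hmz⟩ := hK.inv _ hm h0
  refine hv ?_
  rw [← one_mulVec v, ← hmz, hK.comm _ hm _ hz, ← mulVec_mulVec, h, mulVec_zero]

theorem exists_eq_mulVec (hK : IsFieldSubalgebra n K) {v : Fin n → F} (hv : v ≠ 0) (w : Fin n → F) :
    ∃ m ∈ K, m *ᵥ v = w := by
  let L : K →ₗ[F] (Fin n → F) :=
    { toFun := fun k => (k : Matrix (Fin n) (Fin n) F) *ᵥ v
      map_add' := fun a b => Matrix.add_mulVec ..
      map_smul' := fun c a => Matrix.smul_mulVec .. }
  have hinj : Function.Injective L := (injective_iff_map_eq_zero L).2 fun k hk =>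
    Subtype.ext (eq_zero_of_mulVec hK k.2 hv hk)
  obtain ⟨m, hm⟩ := (LinearMap.injective_iff_surjective_of_finrank_eq_finrank
    (by rw [hK.finrank_eq]; simp)).1 hinj w
  exact ⟨m, m.2, hm⟩

theorem top_of_ne_scalar (hn : n.Prime) (hK : IsFieldSubalgebra n K) (A : Subalgebra F (Matrix (Fin n) (Fin n) F))
    {k : Matrix (Fin n) (Fin n) F} (hk : k ∈ K) (hns : ∀ a : F, k ≠ a • 1) (hkA : k ∈ A) : K ≤ A := by
  letI : CommRing K := { (inferInstance : Ring K) with mul_comm := fun x y => Subtype.ext (hK.comm _ x.2 _ y.2) }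
  letI : Field K := (fld hn hK).toField
  haveI := Subalgebra.isSimpleOrder_of_finrank_prime F K (hK.finrank_eq.symm ▸ hn)
  rcases IsSimpleOrder.eq_bot_or_eq_top (A.comap K.val) with h | h
  · have hkL : (⟨k, hk⟩ : K) ∈ A.comap K.val := hkA
    rw [h, Algebra.mem_bot] at hkL
    obtain ⟨a, ha⟩ := hkL
    exact absurd ((congrArg Subtype.val ha).symm.trans (Algebra.algebraMap_eq_smul_one a)) (hns a)
  · intro x hx
    exact show (⟨x, hx⟩ : K) ∈ A.comap K.val from h ▸ Algebra.mem_top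

/-- a matrix commuting with a nonscalar element of the field is in the field -/
theorem mem_of_commute (hn : n.Prime) (hK : IsFieldSubalgebra n K) {k : Matrix (Fin n) (Fin n) F} (hk : k ∈ K)
    (hns : ∀ a : F, k ≠ a • 1) {A : Matrix (Fin n) (Fin n) F} (hA : A * k = k * A) : A ∈ K := by
  have hall : ∀ j ∈ K, A * j = j * A := fun j hj => by
    have h := top_of_ne_scalar hn hK (Subalgebra.centralizer F {A}) hk hns (by
      rw [Subalgebra.mem_centralizer_iff]
      rintro _ rfl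
      exact hA) hj
    rw [Subalgebra.mem_centralizer_iff] at h
    exact h A rfl
  haveI : Nonempty (Fin n) := ⟨⟨0, hn.pos⟩⟩
  obtain ⟨v, hv⟩ : ∃ v : Fin n → F, v ≠ 0 := ⟨fun _ => 1, fun h => one_ne_zero (congrFun h ⟨0, hn.pos⟩)⟩
  obtain ⟨m, hm, hmv⟩ := exists_eq_mulVec hK hv (A *ᵥ v)
  suffices A = m from this ▸ hm
  refine Matrix.ext_iff_mulVec.2 fun w => ?_
  obtain ⟨j, hj, rfl⟩ := exists_eq_mulVec hK hv w
  rw [mulVec_mulVec, hall j hj, ← mulVec_mulVec, ← hmv, mulVec_mulVec, mulVec_mulVec, hK.comm _ hj _ hm]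

/-- a nonscalar element of the field is irreducible -/
theorem irred_of_mem (hn : n.Prime) (hK : IsFieldSubalgebra n K) {k : Matrix (Fin n) (Fin n) F} (hk : k ∈ K)
    (hns : ∀ a : F, k ≠ a • 1) {W : Submodule F (Fin n → F)} (hW : ∀ w ∈ W, k *ᵥ w ∈ W) : W = ⊥ ∨ W = ⊤ := by
  let A : Subalgebra F (Matrix (Fin n) (Fin n) F) :=
    { carrier := {a | ∀ w ∈ W, a *ᵥ w ∈ W}
      mul_mem' := fun {a b} ha hb w hw => by rw [← mulVec_mulVec]; exact ha _ (hb w hw)
      one_mem' := fun w hw => by rwa [one_mulVec]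
      add_mem' := fun {a b} ha hb w hw => by rw [add_mulVec]; exact W.add_mem (ha w hw) (hb w hw)
      zero_mem' := fun w hw => by rw [zero_mulVec]; exact W.zero_mem
      algebraMap_mem' := fun c w hw => by
        rw [Algebra.algebraMap_eq_smul_one, smul_mulVec, one_mulVec]; exact W.smul_mem c hw }
  refine or_iff_not_imp_left.2 fun h0 => ?_
  obtain ⟨w, hw, hw0⟩ := Submodule.exists_mem_ne_zero_of_ne_bot h0
  refine eq_top_iff.2 fun x _ => ?_
  obtain ⟨m, hm, rfl⟩ := exists_eq_mulVec hK hw0 x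
  exact top_of_ne_scalar hn hK A hk hns hW hm w hw

/-- one nonscalar element of the field decides membership in the normaliser -/
theorem mem_normalizer (hn : n.Prime) (hK : IsFieldSubalgebra n K) {g : GL (Fin n) F}
    {k : Matrix (Fin n) (Fin n) F} (hk : k ∈ K) (hns : ∀ a : F, k ≠ a • 1)
    (hg : (g : Matrix (Fin n) (Fin n) F) * k * ((g⁻¹ : GL (Fin n) F) : Matrix (Fin n) (Fin n) F) ∈ K) :
    g ∈ subalgebraNormalizer K := by
  have hns' : ∀ a : F, (g : Matrix (Fin n) (Fin n) F) * k * ((g⁻¹ : GL (Fin n) F) : Matrix (Fin n) (Fin n) F) ≠ a • 1 :=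
    fun a e => hns a (cj_injective g (show cj g k = cj g (a • 1) by rw [cj_smul, cj_one]; exact e))
  intro m
  refine ⟨fun hm => mem_of_commute hn hK hg hns' ?_, fun hm => mem_of_commute hn hK hk hns (cj_injective g ?_)⟩
  · show cj g m * cj g k = cj g k * cj g m
    rw [← cj_mul, ← cj_mul, hK.comm _ hm _ hk]
  · rw [cj_mul, cj_mul]
    exact hK.comm _ hm _ hg

variable [Fintype F]

theorem lt_phi (hn : n.Prime) : n < phi n (Fintype.card F) := by
  have hq : 1 < Fintype.card F := Fintype.one_lt_card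
  calc n = ∑ i ∈ Finset.range n, 1 := by simp
    _ < _ := Finset.sum_lt_sum (fun i _ => Nat.one_le_pow _ _ (by omega))
      ⟨1, Finset.mem_range.2 hn.one_lt, by simpa using hq⟩

theorem pow_lt_phi (hn : n.Prime) {i : ℕ} (hi : i < n) : Fintype.card F ^ i < phi n (Fintype.card F) := by
  have hq : 1 < Fintype.card F := Fintype.one_lt_card
  obtain ⟨j, hj, hji⟩ : ∃ j < n, j ≠ i := by
    rcases Nat.eq_zero_or_pos i with h | h
    · exact ⟨1, hn.one_lt, by omega⟩
    · exact ⟨0, hn.pos, by omega⟩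
  exact Finset.single_lt_sum (f := fun i => Fintype.card F ^ i) hji (Finset.mem_range.2 hi)
    (Finset.mem_range.2 hj) (Nat.one_le_pow _ _ (by omega)) (fun k _ _ => Nat.zero_le _)

/-- the structure of the normaliser -/
theorem exists_data (hn : n.Prime) (hK : IsFieldSubalgebra n K) :
    ∃ c y : GL (Fin n) F, c ∈ subalgebraNormalizer K ⊓ specialLinear (Fin n) F ∧
      y ∈ subalgebraNormalizer K ⊓ specialLinear (Fin n) F ∧ orderOf c = phi n (Fintype.card F) ∧
      (c : Matrix (Fin n) (Fin n) F) ∈ K ∧ (∀ a : F, (c : Matrix (Fin n) (Fin n) F) ≠ a • 1) ∧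
      (∀ g ∈ specialLinear (Fin n) F, (g : Matrix (Fin n) (Fin n) F) ∈ K → ∃ i : ℕ, g = c ^ i) ∧
      y⁻¹ * c * y = c ^ Fintype.card F ∧
      (∀ g ∈ subalgebraNormalizer K, ∃ i < n, g⁻¹ * c * g = c ^ Fintype.card F ^ i) := by
  letI : CommRing K := { (inferInstance : Ring K) with mul_comm := fun x y => Subtype.ext (hK.comm _ x.2 _ y.2) }
  letI : Field K := (fld hn hK).toField
  obtain ⟨q, hq⟩ : ∃ q, q = Fintype.card F := ⟨_, rfl⟩
  haveI : Finite K := Module.finite_of_finite F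
  haveI : Nonempty (Fin n) := ⟨⟨0, hn.pos⟩⟩
  have hcard : Nat.card K = q ^ n := by
    rw [Module.natCard_eq_pow_finrank (K := F), Nat.card_eq_fintype_card, hK.finrank_eq, hq]
  have hq2 : 2 ≤ q := hq ▸ Fintype.one_lt_card
  obtain ⟨v, hv⟩ : ∃ v : Fin n → F, v ≠ 0 := ⟨fun _ => 1, fun h => one_ne_zero (congrFun h ⟨0, hn.pos⟩)⟩
  let L : K →ₗ[F] (Fin n → F) :=
    { toFun := fun k => (k : Matrix (Fin n) (Fin n) F) *ᵥ v
      map_add' := fun a b => Matrix.add_mulVec ..
      map_smul' := fun c a => Matrix.smul_mulVec .. }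
  have hinj : Function.Injective L := (injective_iff_map_eq_zero L).2 fun k hk =>
    Subtype.ext (eq_zero_of_mulVec hK k.2 hv hk)
  let e : K ≃ₗ[F] (Fin n → F) := LinearEquiv.ofBijective L ⟨hinj,
    (LinearMap.injective_iff_surjective_of_finrank_eq_finrank (by rw [hK.finrank_eq]; simp)).1 hinj⟩
  have he : ∀ k : K, e k = (k : Matrix (Fin n) (Fin n) F) *ᵥ v := fun k => rfl
  have hmul : ∀ a b : K, (a : Matrix (Fin n) (Fin n) F) *ᵥ e b = e (a * b) := fun a b => by
    rw [he, he, mulVec_mulVec]; rfl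
  have hdet : ∀ k : K, (k : Matrix (Fin n) (Fin n) F).det = Algebra.norm F k := by
    intro k
    rw [Algebra.norm_apply, ← LinearMap.det_conj (Algebra.lmul F K k) e,
      ← LinearMap.det_toLin' (k : Matrix (Fin n) (Fin n) F)]
    congr 1
    refine LinearMap.ext fun x => ?_
    obtain ⟨m, rfl⟩ := e.surjective x
    simp only [LinearMap.coe_comp, LinearEquiv.coe_coe, Function.comp_apply, e.symm_apply_apply, Matrix.toLin'_apply,
      hmul]
    rfl
  have hnorm : ∀ k : K, algebraMap F K (Algebra.norm F k) = k ^ phi n q := by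
    intro k
    rw [FiniteField.algebraMap_norm_eq_pow_sum, hK.finrank_eq, Nat.card_eq_fintype_card, hq, phi]
  let emb : Kˣ →* GL (Fin n) F := Units.map (K.val : K →* Matrix (Fin n) (Fin n) F)
  have hemb : Function.Injective emb := Units.map_injective Subtype.val_injective
  obtain ⟨g0, hg0⟩ := IsCyclic.exists_ofOrder_eq_natCard (α := Kˣ)
  rw [Nat.card_units, hcard] at hg0
  have hphi : (q - 1) * phi n q = q ^ n - 1 := by
    rw [phi, Nat.geomSum_eq hq2, Nat.mul_div_cancel']
    simpa using Nat.sub_one_dvd_pow_sub_one q n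
  have hphi0 : 0 < phi n q := lt_of_le_of_lt (Nat.zero_le n) (hq ▸ lt_phi hn)
  have hmemSL : ∀ u : Kˣ, emb u ∈ specialLinear (Fin n) F ↔ u ^ phi n q = 1 := by
    intro u
    have h1 : (emb u : Matrix (Fin n) (Fin n) F).det = Algebra.norm F (u : K) := hdet _
    rw [Units.ext_iff, Units.val_pow_eq_pow_val, ← hnorm, Units.val_one, ← map_one (algebraMap F K),
      (algebraMap F K).injective.eq_iff, ← h1]
    show Matrix.GeneralLinearGroup.det (emb u) = 1 ↔ _
    rw [Units.ext_iff, Matrix.GeneralLinearGroup.val_det_apply, Units.val_one]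
  obtain ⟨c, hc⟩ : ∃ c, c = emb (g0 ^ (q - 1)) := ⟨_, rfl⟩
  have hordc : orderOf c = phi n q := by
    rw [hc, orderOf_injective emb hemb, orderOf_pow, hg0, ← hphi, Nat.gcd_eq_right (dvd_mul_right _ _),
      Nat.mul_div_cancel_left _ (by omega)]
  have hcK : (c : Matrix (Fin n) (Fin n) F) ∈ K := hc ▸ ((g0 ^ (q - 1) : Kˣ) : K).2
  have hcSL : c ∈ specialLinear (Fin n) F := by
    rw [hc, hmemSL, ← pow_mul, hphi, ← hg0, pow_orderOf_eq_one]
  have hgen : ∀ g ∈ specialLinear (Fin n) F, (g : Matrix (Fin n) (Fin n) F) ∈ K → ∃ i : ℕ, g = c ^ i := by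
    intro g hg hgK
    have hu : IsUnit (⟨g, hgK⟩ : K) := by
      refine Ne.isUnit fun h => ?_
      exact g.ne_zero (congrArg Subtype.val h)
    have hge : emb hu.unit = g := Units.ext (by show ((hu.unit : K) : Matrix (Fin n) (Fin n) F) = g; rw [hu.unit_spec])
    obtain ⟨m, hm⟩ := mem_powers_iff_mem_zpowers.2 (show hu.unit ∈ Subgroup.zpowers g0 by
      rw [Subgroup.eq_top_of_card_eq (Subgroup.zpowers g0) (by rw [Nat.card_zpowers, hg0, Nat.card_units, hcard])]
      exact Subgroup.mem_top _)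
    simp only at hm
    have h1 : hu.unit ^ phi n q = 1 := (hmemSL _).1 (by rw [hge]; exact hg)
    rw [← hm, ← pow_mul] at h1
    have h2 := orderOf_dvd_of_pow_eq_one h1
    rw [hg0, ← hphi] at h2
    obtain ⟨i, rfl⟩ := Nat.dvd_of_mul_dvd_mul_right hphi0 h2
    exact ⟨i, by rw [← hge, ← hm, hc, ← map_pow, ← pow_mul]⟩
  have hcns : ∀ a : F, (c : Matrix (Fin n) (Fin n) F) ≠ a • 1 := by
    intro a h
    have hd := det_one hcSL
    rw [h, det_smul, Matrix.det_one, mul_one, Fintype.card_fin] at hd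
    have h3 : c ^ n = 1 := Units.ext (by rw [Units.val_pow_eq_pow_val, h, smul_pow, one_pow, hd, one_smul, Units.val_one])
    have := Nat.le_of_dvd hn.pos (hordc ▸ orderOf_dvd_of_pow_eq_one h3)
    have := lt_phi (F := F) hn
    rw [← hq] at this
    omega
  obtain ⟨G, hG⟩ : ∃ G : GL (Fin n) F, ∀ k : K, (G : Matrix (Fin n) (Fin n) F) *ᵥ e k = e (k ^ q) := by
    obtain ⟨A, hA⟩ : ∃ A : Matrix (Fin n) (Fin n) F,
        A = LinearMap.toMatrix' (e.toLinearMap ∘ₗ (FiniteField.frobeniusAlgHom F K).toLinearMap ∘ₗ e.symm.toLinearMap) :=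
      ⟨_, rfl⟩
    have hAk : ∀ k : K, A *ᵥ e k = e (k ^ q) := fun k => by
      rw [hA, LinearMap.toMatrix'_mulVec]
      simp [hq, FiniteField.coe_frobeniusAlgHom]
    have hu : IsUnit A := Matrix.mulVec_injective_iff_isUnit.1 fun a b hab => by
      obtain ⟨x, rfl⟩ := e.surjective a
      obtain ⟨z, rfl⟩ := e.surjective b
      rw [hAk, hAk, e.injective.eq_iff] at hab
      have := (FiniteField.frobeniusAlgHom F K).toRingHom.injective (show x ^ Fintype.card F = z ^ Fintype.card F by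
        rw [← hq]; exact hab)
      rw [this]
    exact ⟨hu.unit, fun k => by rw [IsUnit.unit_spec]; exact hAk k⟩
  have hGk : ∀ m : K, (G : Matrix (Fin n) (Fin n) F) * (m : Matrix (Fin n) (Fin n) F) =
      ((m ^ q : K) : Matrix (Fin n) (Fin n) F) * G := by
    intro m
    refine Matrix.ext_iff_mulVec.2 fun w => ?_
    obtain ⟨j, rfl⟩ := e.surjective w
    rw [← mulVec_mulVec, ← mulVec_mulVec, hmul, hG, hG, hmul, mul_pow]
  obtain ⟨d, hd⟩ := FiniteField.norm_surjective F K (((Matrix.GeneralLinearGroup.det G)⁻¹ : Fˣ) : F)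
  have hd0 : d ≠ 0 := fun h => by
    rw [h, Algebra.norm_zero] at hd
    exact (Units.ne_zero _) hd.symm
  obtain ⟨y, hy⟩ : ∃ y, y = (G * emb (Units.mk0 d hd0))⁻¹ := ⟨_, rfl⟩
  have hyc : y⁻¹ * c * y = c ^ q := by
    rw [hy, inv_inv, _root_.mul_inv_rev]
    have hcomm : emb (Units.mk0 d hd0) * c = c * emb (Units.mk0 d hd0) := by rw [hc, ← map_mul, ← map_mul, mul_comm]
    calc G * emb (Units.mk0 d hd0) * c * ((emb (Units.mk0 d hd0))⁻¹ * G⁻¹)
        = G * (emb (Units.mk0 d hd0) * c) * (emb (Units.mk0 d hd0))⁻¹ * G⁻¹ := by group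
      _ = G * c * G⁻¹ := by rw [hcomm]; group
      _ = c ^ q := by
        rw [mul_inv_eq_iff_eq_mul]
        refine Units.ext ?_
        rw [Units.val_mul, Units.val_mul, hc, ← map_pow]
        show _ * (((g0 ^ (q - 1) : Kˣ) : K) : Matrix (Fin n) (Fin n) F) =
          ((((g0 ^ (q - 1)) ^ q : Kˣ) : K) : Matrix (Fin n) (Fin n) F) * _
        rw [hGk, Units.val_pow_eq_pow_val (g0 ^ (q - 1))]
  have hyN : y ∈ subalgebraNormalizer K := by
    refine inv_mem_iff.1 (mem_normalizer hn hK hcK hcns ?_)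
    rw [inv_inv, ← Units.val_mul, ← Units.val_mul, hyc, Units.val_pow_eq_pow_val]
    exact pow_mem hcK q
  have hySL : y ∈ specialLinear (Fin n) F := by
    rw [hy, inv_mem_iff]
    show Matrix.GeneralLinearGroup.det (G * emb (Units.mk0 d hd0)) = 1
    rw [map_mul]
    have h1 : Matrix.GeneralLinearGroup.det (emb (Units.mk0 d hd0)) = (Matrix.GeneralLinearGroup.det G)⁻¹ := by
      refine Units.ext ?_
      rw [Matrix.GeneralLinearGroup.val_det_apply]
      show (d : Matrix (Fin n) (Fin n) F).det = _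
      rw [hdet, hd]
    rw [h1, mul_inv_cancel]
  refine ⟨c, y, ⟨mem_normalizer hn hK hcK hcns ?_, hcSL⟩, ⟨hyN, hySL⟩, hq ▸ hordc, hcK, hcns, hgen, hq ▸ hyc,
    fun g hg => ?_⟩
  · rwa [← Units.val_mul, ← Units.val_mul, mul_inv_cancel_right]
  · have hmap : ∀ m : K, ((g⁻¹ : GL (Fin n) F) : Matrix (Fin n) (Fin n) F) * (m : Matrix (Fin n) (Fin n) F) *
        (g : Matrix (Fin n) (Fin n) F) ∈ K := fun m => by
      have h2 := ((subalgebraNormalizer K).inv_mem hg m.1).1 m.2
      rwa [inv_inv] at h2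
    let τ : K →ₐ[F] K := AlgHom.codRestrict ((cjAlg g⁻¹).toAlgHom.comp K.val) K fun m => by
      show ((g⁻¹ : GL (Fin n) F) : Matrix (Fin n) (Fin n) F) * (m : Matrix (Fin n) (Fin n) F) *
        (((g⁻¹)⁻¹ : GL (Fin n) F) : Matrix (Fin n) (Fin n) F) ∈ K
      rw [inv_inv]
      exact hmap m
    obtain ⟨⟨i, hi⟩, hτ⟩ := (FiniteField.bijective_frobeniusAlgHom_pow F K).2 τ
    refine ⟨i, hK.finrank_eq ▸ hi, ?_⟩
    have h1 := AlgHom.congr_fun hτ (((g0 ^ (q - 1) : Kˣ) : K))
    simp only [AlgHom.coe_pow, FiniteField.coe_frobeniusAlgHom, pow_iterate] at h1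
    refine Units.ext ?_
    have h2 := congrArg Subtype.val h1
    rw [Units.val_mul, Units.val_mul, Units.val_pow_eq_pow_val, hc]
    show _ * (((g0 ^ (q - 1) : Kˣ) : K) : Matrix (Fin n) (Fin n) F) * _ = _
    rw [SubmonoidClass.coe_pow] at h2
    refine Eq.trans ?_ h2.symm
    show _ = ((g⁻¹ : GL (Fin n) F) : Matrix (Fin n) (Fin n) F) * (((g0 ^ (q - 1) : Kˣ) : K) : Matrix (Fin n) (Fin n) F) *
        (((g⁻¹)⁻¹ : GL (Fin n) F) : Matrix (Fin n) (Fin n) F)
    rw [inv_inv]

/-- the order of the normaliser -/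
theorem card_normalizer (hn : n.Prime) (hK : IsFieldSubalgebra n K) :
    Nat.card (subalgebraNormalizer K ⊓ specialLinear (Fin n) F : Subgroup (GL (Fin n) F)) =
      n * phi n (Fintype.card F) := by
  obtain ⟨c, y, hc, hy, hord, hcK, hcns, hgen, hyc, hnorm⟩ := exists_data hn hK
  obtain ⟨q, hq⟩ : ∃ q, q = Fintype.card F := ⟨_, rfl⟩
  have hq2 : 2 ≤ q := hq ▸ Fintype.one_lt_card
  rw [← hq] at hyc hnorm
  have hpow : ∀ i : ℕ, (y ^ i)⁻¹ * c * y ^ i = c ^ q ^ i := fun i => by
    induction i with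
    | zero => simp
    | succ i ih =>
      calc (y ^ (i + 1))⁻¹ * c * y ^ (i + 1) = y⁻¹ * ((y ^ i)⁻¹ * c * y ^ i) * y := by rw [pow_succ]; group
        _ = (y⁻¹ * c * y) ^ (q ^ i) := by
          rw [ih]
          have := conj_pow (a := y⁻¹) (b := c) (i := q ^ i)
          rw [inv_inv] at this
          exact this.symm
        _ = c ^ q ^ (i + 1) := by rw [hyc, ← pow_mul, pow_succ']
  have hlt : ∀ i < n, q ^ i < phi n q := fun i hi => hq ▸ pow_lt_phi hn hi
  rw [← hq] at hord ⊢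
  have hphi0 : 0 < phi n q := lt_of_le_of_lt (Nat.zero_le _) (hlt 0 hn.pos)
  let f : Fin (phi n q) × Fin n → (subalgebraNormalizer K ⊓ specialLinear (Fin n) F : Subgroup (GL (Fin n) F)) :=
    fun x => ⟨c ^ (x.1 : ℕ) * y ^ (x.2 : ℕ), mul_mem (pow_mem hc _) (pow_mem hy _)⟩
  have hbij : Function.Bijective f := by
    refine ⟨?_, fun g => ?_⟩
    · rintro ⟨⟨j, hj⟩, ⟨i, hi⟩⟩ ⟨⟨j', hj'⟩, ⟨i', hi'⟩⟩ h
      have h' : c ^ j * y ^ i = c ^ j' * y ^ i' := congrArg Subtype.val h
      have e1 : ∀ (a b : ℕ), (c ^ a * y ^ b)⁻¹ * c * (c ^ a * y ^ b) = c ^ q ^ b := fun a b => by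
        calc (c ^ a * y ^ b)⁻¹ * c * (c ^ a * y ^ b) = (y ^ b)⁻¹ * c * y ^ b := by group
          _ = c ^ q ^ b := hpow b
      have e2 : c ^ q ^ i = c ^ q ^ i' := by rw [← e1 j i, h', e1 j' i']
      have hii : i = i' := Nat.pow_right_injective hq2 (pow_injOn_Iio_orderOf
        (show q ^ i ∈ Set.Iio (orderOf c) by rw [hord]; exact hlt i hi)
        (show q ^ i' ∈ Set.Iio (orderOf c) by rw [hord]; exact hlt i' hi') e2)
      subst hii
      have hjj : j = j' := pow_injOn_Iio_orderOf (show j ∈ Set.Iio (orderOf c) by rw [hord]; exact hj)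
        (show j' ∈ Set.Iio (orderOf c) by rw [hord]; exact hj') (mul_right_cancel h')
      subst hjj
      rfl
    · obtain ⟨i, hi, he⟩ := hnorm g g.2.1
      have hcomm : ((g : GL (Fin n) F) * (y ^ i)⁻¹) * c = c * ((g : GL (Fin n) F) * (y ^ i)⁻¹) := by
        calc (g : GL (Fin n) F) * (y ^ i)⁻¹ * c = (g : GL (Fin n) F) * ((y ^ i)⁻¹ * c * y ^ i) * (y ^ i)⁻¹ := by group
          _ = (g : GL (Fin n) F) * ((g : GL (Fin n) F)⁻¹ * c * g) * (y ^ i)⁻¹ := by rw [hpow, he]
          _ = _ := by group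
      obtain ⟨j, hj⟩ := hgen _ (mul_mem g.2.2 (inv_mem (pow_mem hy.2 i)))
        (mem_of_commute hn hK hcK hcns (by rw [← Units.val_mul, hcomm, Units.val_mul]))
      refine ⟨(⟨j % phi n q, Nat.mod_lt _ hphi0⟩, ⟨i, hi⟩), Subtype.ext ?_⟩
      show c ^ (j % phi n q) * y ^ i = g
      rw [← hord, pow_mod_orderOf, ← hj, inv_mul_cancel_right]
  rw [← Nat.card_eq_of_bijective f hbij, Nat.card_prod, Nat.card_fin, Nat.card_fin, mul_comm]

/-- a commutative set normalised by an element of large prime order in the field lies in the field -/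
theorem mem_of_comm_normalised (hn : n.Prime) (hK : IsFieldSubalgebra n K) {u : GL (Fin n) F} {l : ℕ}
    (hl : l.Prime) (hnl : n < l) (hu : orderOf u = l) (huK : (u : Matrix (Fin n) (Fin n) F) ∈ K)
    (hns : ∀ a : F, (u : Matrix (Fin n) (Fin n) F) ≠ a • 1) {S : Set (Matrix (Fin n) (Fin n) F)}
    (hcomm : ∀ a ∈ S, ∀ b ∈ S, a * b = b * a)
    (hinv : ∀ a ∈ S, (u : Matrix (Fin n) (Fin n) F) * a * ((u⁻¹ : GL (Fin n) F) : Matrix (Fin n) (Fin n) F) ∈ S) :
    ∀ a ∈ S, a ∈ K := by
  haveI : Nonempty (Fin n) := ⟨⟨0, hn.pos⟩⟩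
  obtain ⟨Z, hZ⟩ : ∃ Z, Z = Algebra.adjoin F S := ⟨_, rfl⟩
  have hZc : ∀ x ∈ Z, ∀ y ∈ Z, x * y = y * x := by
    rw [hZ]
    intro x hx y hy
    have h1 := Algebra.adjoin_le_centralizer_centralizer F S hx
    have hle : Algebra.adjoin F S ≤ Subalgebra.centralizer F S := Algebra.adjoin_le fun a ha => by
      rw [SetLike.mem_coe, Subalgebra.mem_centralizer_iff]
      exact fun b hb => hcomm b hb a ha
    rw [Subalgebra.mem_centralizer_iff] at h1
    exact (h1 y (hle hy)).symm
  have hZn : ∀ x ∈ Z, cj u x ∈ Z := by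
    have hle : Z ≤ Z.comap (cjAlg u).toAlgHom := by
      conv_lhs => rw [hZ]
      refine Algebra.adjoin_le fun a ha => ?_
      show cj u a ∈ Z
      rw [hZ]
      exact Algebra.subset_adjoin (hinv a ha)
    exact fun x hx => hle hx
  have hnH : Normalises (Subgroup.zpowers u) Z := by
    intro g hg x hx
    obtain ⟨i, rfl⟩ := mem_powers_iff_mem_zpowers.2 hg
    simp only
    induction i with
    | zero => simpa [cj_one_left] using hx
    | succ i ih => rw [pow_succ', ← cj_cj]; exact hZn _ (ih (mem_powers_iff_mem_zpowers.1 ⟨i, rfl⟩))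
  have hH : Irred (Subgroup.zpowers u) := by
    intro W hW
    refine irred_of_mem hn hK huK hns fun w hw => ?_
    exact hW _ (mem_matrixSet (Subgroup.mem_zpowers u)) ⟨w, hw, rfl⟩
  by_cases hne : ∃ z ∈ Z, ∀ c : F, z ≠ c • (1 : Matrix (Fin n) (Fin n) F)
  swap
  · push Not at hne
    intro a ha
    obtain ⟨c, hc⟩ := hne a (hZ ▸ Algebra.subset_adjoin ha)
    rw [hc]
    exact K.smul_mem K.one_mem c
  suffices ∀ x ∈ Z, cj u x = x by
    intro a ha
    refine mem_of_commute hn hK huK hns ?_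
    have h := this a (hZ ▸ Algebra.subset_adjoin ha)
    calc a * (u : Matrix (Fin n) (Fin n) F) = cj u a * u := by rw [h]
      _ = (u : Matrix (Fin n) (Fin n) F) * a := by rw [cj, mul_assoc, gl_inv_mul, mul_one]
  rcases comm_normalised hH hZc hnH hne with
    ⟨t, m, e, D, -, -, -, -, hD, hHD, -, -, -⟩ | ⟨r, L, -, -, -, -, -, hinvZ⟩
  · exfalso
    have hDne : ∀ i, D i ≠ ⊥ := fun i h => by
      have h1 := hD.finrank_eq i
      rw [h, finrank_bot] at h1
      exact hD.pos.ne h1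
    have hDinj : Function.Injective D := fun i j h => by
      by_contra hij
      have h1 := hD.indep.pairwiseDisjoint hij
      simp only [Function.onFun, h] at h1
      exact hDne j (disjoint_self.1 h1)
    haveI : Fintype {i // D i ≠ ⊥} := Fintype.ofFinite _
    have htn : t ≤ n := by
      have h := hD.indep.subtype_ne_bot_le_finrank
      rw [Fintype.card_congr (Equiv.subtypeUnivEquiv hDne), Fintype.card_fin] at h
      simpa using h
    obtain ⟨σ, hσ⟩ := hHD (Subgroup.mem_zpowers u)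
    have hpow : ∀ k : ℕ, ∀ i, (D i).map (Matrix.toLin' ((u ^ k : GL (Fin n) F) : Matrix (Fin n) (Fin n) F)) =
        D ((σ ^ k) i) := fun k => by
      induction k with
      | zero => intro i; simp
      | succ k ih =>
        intro i
        rw [pow_succ', pow_succ', Units.val_mul, Matrix.toLin'_mul, Submodule.map_comp, ih, hσ]
        rfl
    have hσl : σ ^ l = 1 := Equiv.ext fun i => hDinj (by
      rw [← hpow, ← hu, pow_orderOf_eq_one, Units.val_one, Matrix.toLin'_one, Submodule.map_id]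
      rfl)
    have hσ1 : σ = 1 := by
      have h1 : σ ^ Nat.gcd l (Nat.card (Equiv.Perm (Fin t))) = 1 := pow_gcd_eq_one.2 ⟨hσl, pow_card_eq_one'⟩
      have hco : Nat.Coprime l (Nat.card (Equiv.Perm (Fin t))) := by
        rw [Nat.card_perm, Nat.card_fin, hl.coprime_iff_not_dvd, hl.dvd_factorial]
        omega
      rwa [hco.gcd_eq_one, pow_one] at h1
    have h01 : (⟨0, by have := hD.two_le; omega⟩ : Fin t) ≠ ⟨1, hD.two_le⟩ := by simp
    rcases irred_of_mem hn hK huK hns (W := D ⟨0, by have := hD.two_le; omega⟩) (fun w hw => by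
      have := hσ ⟨0, by have := hD.two_le; omega⟩
      rw [hσ1, Equiv.Perm.one_apply] at this
      rw [← this]
      exact ⟨w, hw, rfl⟩) with h | h
    · exact hDne _ h
    · have := hD.indep.pairwiseDisjoint h01
      simp only [Function.onFun, h, top_disjoint] at this
      exact hDne _ this
  · letI : CommRing Z := { (inferInstance : Ring Z) with mul_comm := fun x y => Subtype.ext (hZc _ x.2 _ y.2) }
    have hZf : IsField Z := ⟨⟨0, 1, fun h => zero_ne_one (congrArg Subtype.val h)⟩, mul_comm, fun {x} hx => by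
      obtain ⟨y, hy, hxy⟩ := hinvZ _ x.2 (fun h => hx (Subtype.ext h))
      exact ⟨⟨y, hy⟩, Subtype.ext hxy⟩⟩
    letI : Field Z := hZf.toField
    haveI : Finite Z := Module.finite_of_finite F
    have hdim : Module.finrank F Z ≤ n := by
      obtain ⟨v, hv⟩ : ∃ v : Fin n → F, v ≠ 0 := ⟨fun _ => 1, fun h => one_ne_zero (congrFun h ⟨0, hn.pos⟩)⟩
      let L : Z →ₗ[F] (Fin n → F) :=
        { toFun := fun k => (k : Matrix (Fin n) (Fin n) F) *ᵥ v
          map_add' := fun a b => Matrix.add_mulVec ..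
          map_smul' := fun c a => Matrix.smul_mulVec .. }
      refine le_trans (LinearMap.finrank_le_finrank_of_injective (f := L)
        ((injective_iff_map_eq_zero L).2 fun k hk => ?_)) (by simp)
      by_contra h0
      obtain ⟨y, hy, hky⟩ := hinvZ _ k.2 (fun h => h0 (Subtype.ext h))
      exact hv (by
        rw [← one_mulVec v, ← hky, hZc _ k.2 _ hy, ← mulVec_mulVec,
          show (k : Matrix (Fin n) (Fin n) F) *ᵥ v = 0 from hk, mulVec_zero])
    let τ : Z →ₐ[F] Z := AlgHom.codRestrict ((cjAlg u).toAlgHom.comp Z.val) Z fun x => hZn x x.2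
    obtain ⟨⟨i, hi⟩, hτ⟩ := (FiniteField.bijective_frobeniusAlgHom_pow F Z).2 τ
    simp only at hτ
    have hτl : τ ^ l = 1 := by
      refine AlgHom.ext fun x => Subtype.ext ?_
      have hit : ∀ k : ℕ, (((τ ^ k) x : Z) : Matrix (Fin n) (Fin n) F) = cj (u ^ k) x := fun k => by
        induction k with
        | zero => simp [cj_one_left]
        | succ k ih =>
          rw [pow_succ', pow_succ', ← cj_cj, ← ih]
          rfl
      rw [hit, ← hu, pow_orderOf_eq_one, cj_one_left]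
      rfl
    have hi0 : i = 0 := by
      have hord : orderOf (FiniteField.frobeniusAlgHom F Z) = Module.finrank F Z :=
        FiniteField.orderOf_frobeniusAlgHom F Z
      rw [← hτ, ← pow_mul] at hτl
      have h1 := orderOf_dvd_of_pow_eq_one hτl
      rw [hord] at h1
      have hco : Nat.Coprime (Module.finrank F Z) l := by
        refine ((hl.coprime_iff_not_dvd).2 fun h => ?_).symm
        have := Nat.le_of_dvd Module.finrank_pos h
        omega
      exact Nat.eq_zero_of_dvd_of_lt (hco.dvd_of_dvd_mul_right h1) hi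
    intro x hx
    have h1 := congrArg Subtype.val (AlgHom.congr_fun hτ (⟨x, hx⟩ : Z))
    rw [hi0, pow_zero] at h1
    exact h1.symm

end CfsgLib.Perm.Trans.SingerNorm
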